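import Groth.Agent.Lib.AmpleImm18.Core

/-!
# All large powers of an ample module give immersions into projective space
-/

universe u

open CategoryTheory Limits AlgebraicGeometry TopologicalSpace Opposite

set_option linter.style.haveILetI false
set_option backward.isDefEq.respectTransparency false

namespace Groth.Agent.AmpleImm18

open Groth.Agent.M2 (tsec res)

variable {R : Type u} [CommRing R] {X : Scheme.{u}}

theorem exists_immersion_pow_of_isAmple (q : X ⟶ Spec (CommRingCat.of R)) [LocallyOfFiniteType q]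
    {L : X.Modules} (h : CohB1.IsAmple L) :
    ∃ m₀ : ℕ, ∀ m : ℕ, m₀ ≤ m → ∃ (n : ℕ) (j : X ⟶ CohB1.ProjSpace n R), IsImmersion j ∧
      j ≫ CohB1.ProjSpace.toSpec n R = q ∧
      Nonempty ((Scheme.Modules.pullback j).obj (_root_.Twist.twistProjSpace n R 1) ≅ CohB1.tensorPow L m) := by
  classical
  haveI : QuasiSeparatedSpace X := Amp.quasiSeparatedSpace_of_isAmple h
  obtain ⟨hL, hX, -⟩ := Amp.isAmple_iff.1 h
  haveI := hX
  choose W u hxW _ _ hu using fun x : X => Amp.exists_isGenerator hL (x := x) (V := ⊤) trivial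
  choose k H hH hxH hle hA using fun x : X => Amp.exists_hasSec_le h (hxW x)
  obtain ⟨T, hT⟩ := isCompact_univ.elim_finite_subcover (fun x => (H x : Set X)) (fun x => (H x).isOpen)
    fun x _ => Set.mem_iUnion.2 ⟨x, hxH x⟩
  let N := ∏ x ∈ T, (k x + 1)
  have hN : 0 < N := Finset.prod_pos fun y _ => Nat.succ_pos _
  have hH' : ∀ x : T, Amp.HasSec L N (H x) := fun x => by
    obtain ⟨c, hc⟩ := Finset.dvd_prod_of_mem (fun y => k y + 1) x.2
    have hN' := hN
    rw [show N = (k x + 1) * c from hc] at hN' ⊢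
    obtain ⟨c', rfl⟩ := Nat.exists_eq_succ_of_ne_zero (n := c) (fun h0 => by simp [h0] at hN')
    exact (hH x).powPow hL c'
  choose s hs using hH'
  let M := CohB1.tensorPow L N
  have hM : PicF.IsInvertible M := Amp.isInvertible_tensorPow hL N
  let G : T → X.Opens := fun x => CohB1.genLocus M (s x)
  have hG : ∀ x : T, G x = H x := hs
  have hGA : ∀ x, IsAffineOpen (G x) := fun x => by rw [hG]; exact hA x
  have hGW : ∀ x : T, G x ≤ W x := fun x => (hG x).le.trans (hle x)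
  let φ₀ : ∀ x : T, R →+* Γ(X, G x) := fun x =>
    (Groth.Agent.M1.ores (le_top : G x ≤ ⊤)).hom.comp (ProjUP.toGlobal q)
  have hgens : ∀ x : T, ∃ S : Finset Γ(X, G x),
      ∀ P : Subring Γ(X, G x), (∀ c, φ₀ x c ∈ P) → (∀ a ∈ S, a ∈ P) → P = ⊤ := fun x => by
    have h1 : (q.appLE ⊤ (G x) le_top).hom.FiniteType :=
      q.finiteType_appLE (isAffineOpen_top _) (hGA x) le_top
    have h2 : (φ₀ x).FiniteType := h1.comp (RingHom.FiniteType.of_surjective _
      (ConcreteCategory.bijective_of_isIso (Scheme.ΓSpecIso (CommRingCat.of R)).inv).2)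
    letI := (φ₀ x).toAlgebra
    obtain ⟨S, hS⟩ := h2.out
    refine ⟨S, fun P h3 h4 => top_le_iff.1 fun a _ => ?_⟩
    let P' : Subalgebra R Γ(X, G x) := { P with algebraMap_mem' := h3 }
    have h5 : Algebra.adjoin R (↑S : Set Γ(X, G x)) ≤ P' := Algebra.adjoin_le (fun y hy => h4 y hy)
    exact h5 (by rw [hS]; exact Algebra.mem_top)
  choose S hS using hgens
  let ι := Fin N × Σ x : T, {a // a ∈ insert (1 : Γ(X, G x)) (S x)}
  let F : ℕ → X.Modules := fun r => CohB1.tensorPow L r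
  have hF : ∀ r, PicF.IsInvertible (F r) := Amp.isInvertible_tensorPow hL
  choose n₀ hn₀ using fun p : ι =>
    haveI : Coh.IsQCoh (F p.1) := M2.isQCoh_of_isFinLocFree (M2.isFinLocFree_of_isInvertible (hF p.1))
    Amp.exists_extend_genLocus hM (s p.2.1) (F p.1)
      ((p.2.2.1 : Γ(X, G p.2.1)) • Amp.pw (res L (hGW p.2.1) (u (p.2.1 : X))) p.1)
  refine ⟨N * (Finset.univ.sup n₀ + 2), fun m hm => ?_⟩
  let r : Fin N := ⟨m % N, Nat.mod_lt _ hN⟩
  have hmN : Finset.univ.sup n₀ + 2 ≤ m / N := (Nat.le_div_iff_mul_le hN).2 (by rwa [mul_comm])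
  let n := m / N - 1
  choose t ht using fun (x : T) (a : {a // a ∈ insert (1 : Γ(X, G x)) (S x)}) =>
    hn₀ (r, ⟨x, a⟩) n ((Finset.le_sup (Finset.mem_univ _)).trans (show Finset.univ.sup n₀ ≤ m / N - 1 by omega))
  let F' := CohB1.tensorMod (F r) (CohB1.tensorPow M n)
  have hF' : PicF.IsInvertible F' := M2.isInvertible_tensor (hF r) (Amp.isInvertible_tensorPow hM n)
  let w : ∀ x : T, {a // a ∈ insert (1 : Γ(X, G x)) (S x)} → ProjUP.Γm (CohB1.tensorMod F' M) := fun x a =>
    tsec F' M (t x a) (Amp.gval (s x))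
  let one : ∀ x : T, {a // a ∈ insert (1 : Γ(X, G x)) (S x)} := fun x => ⟨1, Finset.mem_insert_self _ _⟩
  let e : CohB1.tensorMod F' M ≅ CohB1.tensorPow L m :=
    M2.tensorIso (M2.tensorIso (Iso.refl (F r)) (M2.tensorPowPow L N n) ≪≫ (M2.tensorPowAdd L r (N * n)).symm)
      (Iso.refl M) ≪≫ (M2.tensorPowAdd L (r + N * n) N).symm ≪≫ eqToIso (congrArg (CohB1.tensorPow L) (by
        have h0 : N * (m / N) + m % N = m := Nat.div_add_mod m N
        have h1 : m / N = n + 1 := by simp only [n]; omega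
        rw [h1, mul_add, mul_one] at h0
        show m % N + N * n + N = m
        omega))
  have hres : ∀ (x : T) a, res _ (le_top : G x ≤ ⊤) (w x a) = tsec F' M
      (tsec (F r) (CohB1.tensorPow M n) ((a.1 : Γ(X, G x)) • Amp.pw (res L (hGW x) (u (x : X))) r)
        (Amp.pw (res M le_top (Amp.gval (s x))) n)) (res M le_top (Amp.gval (s x))) := fun x a =>
    (M2.res_tsec le_top _ _).trans (congrArg (fun z => tsec F' M z _) (ht x a))
  have hw : ∀ (x : T) (y : X),
      Amp.Gen (Amp.gm (CohB1.tensorMod F' M) y (U := ⊤) trivial (w x (one x))) ↔ y ∈ G x := fun x y => by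
    refine (Amp.gen_tsec_iff hF' hM (U := ⊤) (x := y) trivial _ _).trans ⟨fun h0 => ?_, fun hy => ?_⟩
    · exact (Amp.mem_genLocus_iff hM (s x)).2 h0.2
    · have hg := (Amp.mem_genLocus_iff hM (s x)).1 hy
      refine ⟨?_, hg⟩
      rw [← Amp.gm_res (le_top : G x ≤ ⊤) hy, ht x (one x)]
      refine (Amp.gen_tsec_iff (hF r) (Amp.isInvertible_tensorPow hM n) hy _ _).2 ⟨?_, ?_⟩
      · show Amp.Gen (Amp.gm (F r) y hy ((1 : Γ(X, G x)) • _))
        rw [one_smul]
        refine Amp.gen_pw hL hy _ _ ?_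
        rw [Amp.gm_res]
        exact Amp.gen_of_isGenerator (hu _) _
      · refine Amp.gen_pw hM hy _ _ ?_
        rw [Amp.gm_res]
        exact hg
  obtain ⟨n', j, hj, hq, ⟨τ⟩⟩ := exists_immersion_of_sections q (M2.isInvertible_tensor hF' hM) G hGA
    (top_le_iff.1 fun y _ => by
      obtain ⟨x, hx, hyx⟩ := Set.mem_iUnion₂.1 (hT (Set.mem_univ y))
      exact Opens.mem_iSup.2 ⟨⟨x, hx⟩, by rw [hG]; exact hyx⟩)
    (fun x => w x (one x)) hw S hS fun x a ha => ⟨w x ⟨a, Finset.mem_insert_of_mem ha⟩, by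
      show res _ _ (w x ⟨a, Finset.mem_insert_of_mem ha⟩) = a • res _ _ (w x (one x))
      rw [hres, hres]
      erw [one_smul, M2.tsec_smul_left, M2.tsec_smul_left]⟩
  exact ⟨n', j, hj, hq, ⟨τ ≪≫ e⟩⟩

end Groth.Agent.AmpleImm18
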