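import Groth.Agent.Lib.AmpleImm18.Core
import Groth.Agent.Lib.ProjSpace.BaseChange
import Groth.Agent.Lib.Twist.ProjSpace

/-!
# All large powers of an ample module, twisted by any invertible module, are very ample over any base
-/

universe u

open CategoryTheory Limits AlgebraicGeometry TopologicalSpace Opposite

set_option linter.style.haveILetI false
set_option backward.isDefEq.respectTransparency false

namespace Groth.Agent.AmpleImm18

open Groth.Agent.M2 (tsec res)

variable {X S : Scheme.{u}}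

/-- The product chart `D × V` of `P^n_S`. -/
theorem isAffineOpen_chart {n : ℕ} {D : (CohB1.ProjSpace n (ULift.{u} ℤ)).Opens} (hD : IsAffineOpen D)
    {V : S.Opens} (hV : IsAffineOpen V) :
    IsAffineOpen (pullback.fst (CohB1.ProjSpace.toSpec n (ULift.{u} ℤ)) (specULiftZIsTerminal.from S) ⁻¹ᵁ D ⊓
      CohB1.ProjSpaceOver.toBase n S ⁻¹ᵁ V) := by
  haveI : IsAffine (V : Scheme.{u}) := hV
  have hpb := ProjSpace.isPullback_overMap n V.ι
  haveI : IsOpenImmersion (ProjSpace.overMap n V.ι) :=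
    MorphismProperty.of_isPullback (P := @IsOpenImmersion) hpb.flip inferInstance
  haveI : IsAffineHom (pullback.fst (CohB1.ProjSpace.toSpec n (ULift.{u} ℤ))
      (specULiftZIsTerminal.from (V : Scheme.{u}))) := MorphismProperty.pullback_fst _ _ inferInstance
  have h := (hD.preimage (pullback.fst (CohB1.ProjSpace.toSpec n (ULift.{u} ℤ))
      (specULiftZIsTerminal.from (V : Scheme.{u})))).image_of_isOpenImmersion (ProjSpace.overMap n V.ι)
  have hrange : (ProjSpace.overMap n V.ι).opensRange = CohB1.ProjSpaceOver.toBase n S ⁻¹ᵁ V := by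
    ext1
    rw [Scheme.Hom.coe_opensRange]
    rw [← hpb.isoPullback_hom_fst, Scheme.Hom.comp_base, TopCat.coe_comp, Set.range_comp,
      hpb.isoPullback.hom.surjective.range_eq, Set.image_univ, Scheme.Pullback.range_fst, Scheme.Opens.range_ι]
    rfl
  rw [show pullback.fst (CohB1.ProjSpace.toSpec n (ULift.{u} ℤ)) (specULiftZIsTerminal.from (V : Scheme.{u})) =
    ProjSpace.overMap n V.ι ≫ pullback.fst _ _ from ((pullback.lift_fst _ _ _).trans (Category.comp_id _)).symm,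
    Scheme.Hom.comp_preimage, Scheme.Hom.image_preimage_eq_opensRange_inf, hrange, inf_comm] at h
  exact h

/-- For `L` ample and `L'` invertible, `L^m ⊗ L'` is very ample relative to any morphism locally of finite type
for all large `m`. -/
theorem exists_immersion_over (f : X ⟶ S) [LocallyOfFiniteType f]
    {L : X.Modules} (h : CohB1.IsAmple L) {L' : X.Modules} (hL' : PicF.IsInvertible L') :
    ∃ m₀ : ℕ, ∀ m : ℕ, m₀ ≤ m → ∃ (n : ℕ) (i : X ⟶ CohB1.ProjSpaceOver n S), IsImmersion i ∧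
      i ≫ CohB1.ProjSpaceOver.toBase n S = f ∧
      Nonempty (CohB1.tensorMod (CohB1.tensorPow L m) L' ≅
        (Scheme.Modules.pullback i).obj (_root_.Twist.twistOver n S 1)) := by
  classical
  haveI : QuasiSeparatedSpace X := Amp.quasiSeparatedSpace_of_isAmple h
  obtain ⟨hL, hX, -⟩ := Amp.isAmple_iff.1 h
  haveI := hX
  choose V hV hxV _ using fun x : X =>
    exists_isAffineOpen_mem_and_subset (U := (⊤ : S.Opens)) (x := f x) trivial
  choose W₁ u₁ hxW₁ hW₁ _ hu₁ using fun x : X => Amp.exists_isGenerator hL (x := x) (V := f ⁻¹ᵁ V x) (hxV x)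
  choose W₂ u₂ hxW₂ hW₂ _ hu₂ using fun x : X => Amp.exists_isGenerator hL' (hxW₁ x)
  choose k H hH hxH hle hA using fun x : X => Amp.exists_hasSec_le h (hxW₂ x)
  obtain ⟨T, hT⟩ := isCompact_univ.elim_finite_subcover (fun x => (H x : Set X)) (fun x => (H x).isOpen)
    fun x _ => Set.mem_iUnion.2 ⟨x, hxH x⟩
  let N := ∏ x ∈ T, (k x + 1)
  have hN : 0 < N := Finset.prod_pos fun y _ => Nat.succ_pos _
  have hH' : ∀ x : T, Amp.HasSec L N (H x) := fun x => by
    obtain ⟨c, hc⟩ := Finset.dvd_prod_of_mem (fun y => k y + 1) x.2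
    have hN' := hN
    rw [show N = (k x + 1) * c from hc] at hN' ⊢
    obtain ⟨c', rfl⟩ := Nat.exists_eq_succ_of_ne_zero (n := c) (fun h0 => by simp [h0] at hN')
    exact (hH x).powPow hL c'
  choose s hs using hH'
  let M := CohB1.tensorPow L N
  have hM : PicF.IsInvertible M := Amp.isInvertible_tensorPow hL N
  let G : T → X.Opens := fun x => CohB1.genLocus M (s x)
  have hG : ∀ x : T, G x = H x := hs
  have hGA : ∀ x, IsAffineOpen (G x) := fun x => by rw [hG]; exact hA x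
  have hGW₂ : ∀ x : T, G x ≤ W₂ x := fun x => (hG x).le.trans (hle x)
  have hGW₁ : ∀ x : T, G x ≤ W₁ x := fun x => (hGW₂ x).trans (hW₂ x)
  have hGV : ∀ x : T, G x ≤ f ⁻¹ᵁ V x := fun x => (hGW₁ x).trans (hW₁ x)
  have hcov : ⨆ x, G x = ⊤ := top_le_iff.1 fun y _ => by
    obtain ⟨x, hx, hyx⟩ := Set.mem_iUnion₂.1 (hT (Set.mem_univ y))
    exact Opens.mem_iSup.2 ⟨⟨x, hx⟩, by rw [hG]; exact hyx⟩
  have hgens : ∀ x : T, ∃ A : Finset Γ(X, G x), ∀ P : Subring Γ(X, G x),
      (∀ c, f.appLE (V x) (G x) (hGV x) c ∈ P) → (∀ a ∈ A, a ∈ P) → P = ⊤ := fun x => by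
    have hft := f.finiteType_appLE (hV x) (hGA x) (hGV x)
    letI := (f.appLE (V x) (G x) (hGV x)).hom.toAlgebra
    have hft' : Algebra.FiniteType Γ(S, V x) Γ(X, G x) := hft
    obtain ⟨A, hA'⟩ := hft'.out
    refine ⟨A, fun P h3 h4 => top_le_iff.1 fun a _ => ?_⟩
    let P' : Subalgebra Γ(S, V x) Γ(X, G x) := { P with algebraMap_mem' := h3 }
    have h5 : Algebra.adjoin Γ(S, V x) (↑A : Set Γ(X, G x)) ≤ P' := Algebra.adjoin_le (fun y hy => h4 y hy)
    exact h5 (by rw [hA']; exact Algebra.mem_top)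
  choose A hA' using hgens
  let ι := Fin N × Σ x : T, {a // a ∈ insert (1 : Γ(X, G x)) (A x)}
  let F : ℕ → X.Modules := fun r => CohB1.tensorMod (CohB1.tensorPow L r) L'
  have hF : ∀ r, PicF.IsInvertible (F r) := fun r =>
    M2.isInvertible_tensor (Amp.isInvertible_tensorPow hL r) hL'
  let g : ∀ (r : ℕ) (x : T), Γ(F r, G x) := fun r x =>
    tsec (CohB1.tensorPow L r) L' (Amp.pw (res L (hGW₁ x) (u₁ (x : X))) r) (res L' (hGW₂ x) (u₂ (x : X)))
  choose n₀ hn₀ using fun p : ι =>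
    haveI : Coh.IsQCoh (F p.1) := M2.isQCoh_of_isFinLocFree (M2.isFinLocFree_of_isInvertible (hF p.1))
    Amp.exists_extend_genLocus hM (s p.2.1) (F p.1) ((p.2.2.1 : Γ(X, G p.2.1)) • g p.1 p.2.1)
  refine ⟨N * (Finset.univ.sup n₀ + 2), fun m hm => ?_⟩
  let r : Fin N := ⟨m % N, Nat.mod_lt _ hN⟩
  have hmN : Finset.univ.sup n₀ + 2 ≤ m / N := (Nat.le_div_iff_mul_le hN).2 (by rwa [mul_comm])
  let n := m / N - 1
  choose t ht using fun (x : T) (a : {a // a ∈ insert (1 : Γ(X, G x)) (A x)}) =>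
    hn₀ (r, ⟨x, a⟩) n ((Finset.le_sup (Finset.mem_univ _)).trans (show Finset.univ.sup n₀ ≤ m / N - 1 by omega))
  let F' := CohB1.tensorMod (F r) (CohB1.tensorPow M n)
  have hF' : PicF.IsInvertible F' := M2.isInvertible_tensor (hF r) (Amp.isInvertible_tensorPow hM n)
  let w : ∀ x : T, {a // a ∈ insert (1 : Γ(X, G x)) (A x)} → ProjUP.Γm (CohB1.tensorMod F' M) := fun x a =>
    tsec F' M (t x a) (Amp.gval (s x))
  let one : ∀ x : T, {a // a ∈ insert (1 : Γ(X, G x)) (A x)} := fun x => ⟨1, Finset.mem_insert_self _ _⟩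
  let e : CohB1.tensorMod F' M ≅ CohB1.tensorMod (CohB1.tensorPow L m) L' :=
    M2.tensorAssoc (F r) (CohB1.tensorPow M n) M ≪≫
      M2.tensorIso (Iso.refl (F r)) (M2.tensorIso (M2.tensorPowPow L N n) (Iso.refl M) ≪≫
        (M2.tensorPowAdd L (N * n) N).symm) ≪≫
      M2.tensorAssoc (CohB1.tensorPow L r) L' (CohB1.tensorPow L (N * n + N)) ≪≫
      M2.tensorIso (Iso.refl _) (M2.tensorComm L' (CohB1.tensorPow L (N * n + N))) ≪≫
      (M2.tensorAssoc (CohB1.tensorPow L r) (CohB1.tensorPow L (N * n + N)) L').symm ≪≫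
      M2.tensorIso ((M2.tensorPowAdd L r (N * n + N)).symm ≪≫ eqToIso (congrArg (CohB1.tensorPow L) (by
        have h0 : N * (m / N) + m % N = m := Nat.div_add_mod m N
        have h1 : m / N = n + 1 := by simp only [n]; omega
        rw [h1, mul_add, mul_one] at h0
        show m % N + (N * n + N) = m
        omega))) (Iso.refl L')
  have hres : ∀ (x : T) a, res _ (le_top : G x ≤ ⊤) (w x a) = tsec F' M
      (tsec (F r) (CohB1.tensorPow M n) ((a.1 : Γ(X, G x)) • g r x)
        (Amp.pw (res M le_top (Amp.gval (s x))) n)) (res M le_top (Amp.gval (s x))) := fun x a =>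
    (M2.res_tsec le_top _ _).trans (congrArg (fun z => tsec F' M z _) (ht x a))
  have hw : ∀ (x : T) (y : X),
      Amp.Gen (Amp.gm (CohB1.tensorMod F' M) y (U := ⊤) trivial (w x (one x))) ↔ y ∈ G x := fun x y => by
    refine (Amp.gen_tsec_iff hF' hM (U := ⊤) (x := y) trivial _ _).trans ⟨fun h0 => ?_, fun hy => ?_⟩
    · exact (Amp.mem_genLocus_iff hM (s x)).2 h0.2
    · have hg := (Amp.mem_genLocus_iff hM (s x)).1 hy
      refine ⟨?_, hg⟩
      rw [← Amp.gm_res (le_top : G x ≤ ⊤) hy, ht x (one x)]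
      refine (Amp.gen_tsec_iff (hF r) (Amp.isInvertible_tensorPow hM n) hy _ _).2 ⟨?_, ?_⟩
      · show Amp.Gen (Amp.gm (F r) y hy ((1 : Γ(X, G x)) • _))
        rw [one_smul]
        refine (Amp.gen_tsec_iff (Amp.isInvertible_tensorPow hL r) hL' hy _ _).2 ⟨?_, ?_⟩
        · refine Amp.gen_pw hL hy _ _ ?_
          rw [Amp.gm_res]
          exact Amp.gen_of_isGenerator (hu₁ _) _
        · rw [Amp.gm_res]
          exact Amp.gen_of_isGenerator (hu₂ _) _
      · refine Amp.gen_pw hM hy _ _ ?_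
        rw [Amp.gm_res]
        exact hg
  obtain ⟨n', j, D, hq, ⟨τ⟩, hD, hch⟩ := exists_map_of_sections (specULiftZIsTerminal.from X)
    (M2.isInvertible_tensor hF' hM) G hcov (fun x => w x (one x)) hw A
    fun x a ha => ⟨w x ⟨a, Finset.mem_insert_of_mem ha⟩, by
      show res _ _ (w x ⟨a, Finset.mem_insert_of_mem ha⟩) = a • res _ _ (w x (one x))
      rw [hres, hres]
      erw [one_smul, M2.tsec_smul_left, M2.tsec_smul_left]⟩
  choose hpre hA'' _ using hch
  let π := pullback.fst (CohB1.ProjSpace.toSpec n' (ULift.{u} ℤ)) (specULiftZIsTerminal.from S)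
  let i : X ⟶ CohB1.ProjSpaceOver n' S := pullback.lift j f (specULiftZIsTerminal.hom_ext _ _)
  have hif : i ≫ CohB1.ProjSpaceOver.toBase n' S = f := pullback.lift_snd _ _ _
  have hij : i ≫ π = j := pullback.lift_fst _ _ _
  let Wc : T → (CohB1.ProjSpaceOver n' S).Opens := fun x =>
    π ⁻¹ᵁ D x ⊓ CohB1.ProjSpaceOver.toBase n' S ⁻¹ᵁ V x
  have hiW : ∀ x, i ⁻¹ᵁ Wc x = G x := fun x => by
    simp only [Wc, Scheme.Hom.preimage_inf, ← Scheme.Hom.comp_preimage, hif, hij, hpre]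
    exact inf_eq_left.2 (hGV x)
  refine ⟨n', i, isImmersion_of_charts i Wc (fun x => isAffineOpen_chart (hD x) (hV _)) G hGA hcov hiW
    (fun x => hA' x _ (fun c => ?_) (fun a ha => ?_)), hif,
    ⟨e.symm ≪≫ τ.symm ≪≫ eqToIso (congrArg (fun z => (Scheme.Modules.pullback z).obj _) hij.symm) ≪≫
      ((Scheme.Modules.pullbackComp i π).app _).symm⟩⟩
  · refine ⟨(CohB1.ProjSpaceOver.toBase n' S).appLE (V x) (Wc x) inf_le_right c, ?_⟩
    show ((CohB1.ProjSpaceOver.toBase n' S).appLE (V x) (Wc x) _ ≫ i.appLE (Wc x) (G x) _) c = _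
    rw [Scheme.Hom.appLE_comp_appLE]
    simp only [hif]
  · obtain ⟨b, hb⟩ := hA'' x a ha
    refine ⟨π.appLE (D x) (Wc x) inf_le_left b, ?_⟩
    show (π.appLE (D x) (Wc x) _ ≫ i.appLE (Wc x) (G x) _) b = _
    rw [Scheme.Hom.appLE_comp_appLE]
    simp only [hij]
    exact hb

end Groth.Agent.AmpleImm18
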