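import Groth.Agent.Lib.AmpleImm18.Over
import Groth.Agent.Lib.AmpleImm18.General
import Groth.Agent.Lib.RelAmple18.Basic

/-!
# `O(1)` on a subscheme of `P^n_S` is ample over affine opens of `S`
-/

universe u

open CategoryTheory Limits AlgebraicGeometry TopologicalSpace Opposite

set_option linter.style.haveILetI false
set_option backward.isDefEq.respectTransparency false

namespace Groth.Agent.AmpleImm18

variable {X S : Scheme.{u}}

theorem isAmple_restrict_twistOver (f : X ⟶ S) [QuasiCompact f] {n : ℕ} (i : X ⟶ CohB1.ProjSpaceOver n S)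
    [IsImmersion i] (hi : i ≫ CohB1.ProjSpaceOver.toBase n S = f) {V : S.Opens} (hV : IsAffineOpen V) :
    CohB1.IsAmple (((Scheme.Modules.pullback i).obj (_root_.Twist.twistOver n S 1)).restrict (f ⁻¹ᵁ V).ι) := by
  haveI : IsAffine (V : Scheme.{u}) := hV
  haveI : CompactSpace (f ⁻¹ᵁ V : Scheme.{u}) :=
    isCompact_iff_compactSpace.1 (RA.isCompact_preimage f hV)
  let hpb := ProjSpace.isPullback_overMap n V.ι
  let a : (f ⁻¹ᵁ V : Scheme.{u}) ⟶ CohB1.ProjSpaceOver n (V : Scheme.{u}) :=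
    hpb.lift ((f ⁻¹ᵁ V).ι ≫ i) (f ∣_ V) (by rw [Category.assoc, hi, morphismRestrict_ι])
  have ha : a ≫ ProjSpace.overMap n V.ι = (f ⁻¹ᵁ V).ι ≫ i := hpb.lift_fst _ _ _
  have hind : Topology.IsInducing a := by
    refine Topology.IsInducing.of_comp a.continuous (ProjSpace.overMap n V.ι).continuous ?_
    have h := ((f ⁻¹ᵁ V).ι ≫ i).isEmbedding.isInducing
    rw [← ha, Scheme.Hom.comp_base, TopCat.coe_comp] at h
    exact h
  let πV := pullback.fst (CohB1.ProjSpace.toSpec n (ULift.{u} ℤ)) (specULiftZIsTerminal.from (V : Scheme.{u}))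
  let π := pullback.fst (CohB1.ProjSpace.toSpec n (ULift.{u} ℤ)) (specULiftZIsTerminal.from S)
  have hπ : a ≫ πV = ((f ⁻¹ᵁ V).ι ≫ i) ≫ π := by
    rw [← ha, Category.assoc]
    exact congrArg (a ≫ ·) ((pullback.lift_fst _ _ _).trans (Category.comp_id _)).symm
  refine Amp.isAmple_of_iso ?_ (Amp.isAmple_pullback_of_isInducing a hind (isAmple_twistOver n (V : Scheme.{u})))
  exact (Scheme.Modules.pullbackComp a πV).app _ ≪≫
    eqToIso (congrArg (fun z => (Scheme.Modules.pullback z).obj _) hπ) ≪≫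
    ((Scheme.Modules.pullbackComp ((f ⁻¹ᵁ V).ι ≫ i) π).app _).symm ≪≫
    ((Scheme.Modules.pullbackComp (f ⁻¹ᵁ V).ι i).app (_root_.Twist.twistOver n S 1)).symm ≪≫
    ((Scheme.Modules.restrictFunctorIsoPullback (f ⁻¹ᵁ V).ι).app _).symm

end Groth.Agent.AmpleImm18
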