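import Groth.Agent.Lib.CohFound.ProperFinite
import Groth.Agent.Lib.CohFound.MV
import Groth.Agent.Lib.ModM1.Coh
import Groth.Agent.Lib.PoleOne18.Ample
import Groth.Agent.Lib.FlatH4.GenPt

/-!
# Functions with poles exactly at given points of a proper curve
-/

set_option autoImplicit false
set_option linter.style.haveILetI false

universe u

open CategoryTheory AlgebraicGeometry TopologicalSpace Opposite

namespace Groth.Agent.AmpleImm18

open Groth.Agent.M1 Groth.Agent.CohFound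

variable {k : Type u} [Field k] {Y : Scheme.{u}}

/-- A closed set of closed points of a Noetherian scheme is finite. -/
theorem finite_of_forall_isClosed [IsNoetherian Y] {C : Set Y} (hC : IsClosed C)
    (h : ∀ y ∈ C, IsClosed ({y} : Set Y)) : C.Finite := by
  obtain ⟨S, hS, -, hSi, hCS⟩ := NoetherianSpace.exists_finite_set_isClosed_irreducible hC
  rw [hCS]
  refine hS.sUnion fun t ht => Set.Subsingleton.finite ?_
  obtain ⟨ξ, hξ⟩ := QuasiSober.sober (hSi t ht).closure isClosed_closure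
  have hξC : ξ ∈ C :=
    closure_minimal ((Set.subset_sUnion_of_mem ht).trans hCS.symm.le) hC (hξ.symm ▸ subset_closure rfl)
  intro a ha b hb
  have h1 : ∀ z ∈ t, z = ξ := fun z hz => by
    have : z ∈ closure ({ξ} : Set Y) := hξ.symm ▸ subset_closure hz
    rwa [(h ξ hξC).closure_eq] at this
  rw [h1 a ha, h1 b hb]

/-- A local equation of a finite set of closed points in a scheme of dimension at most one. -/
theorem exists_local_equation [IsNoetherian Y] [Y.IsSeparated]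
    (hd : ∀ y : Y, ringKrullDim (Y.presheaf.stalk y) ≤ 1) {S : Set Y} (hS : S.Finite)
    (hcl : ∀ z ∈ S, IsClosed ({z} : Set Y)) :
    ∃ (V : Y.Opens) (f : Γ(Y, V)), IsAffineOpen V ∧ S ⊆ V ∧
      ∀ y ∈ V, (y ∈ Y.basicOpen f ↔ y ∉ S) := by
  classical
  obtain ⟨V, hV, hSV, hgen⟩ := PoleOne18.exists_affine_finite hd S hS
  obtain ⟨G, hG, hGmax⟩ : ∃ G : Set Y, G.Finite ∧ ∀ η, η ∈ G ↔ FlatH4.IsMaxPt η := by
    obtain ⟨U₀, G₀, -, hG₀, -, hmem⟩ := PoleOne18.exists_affine_generic (X := Y)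
    exact ⟨{η | FlatH4.IsMaxPt η}, hG₀.subset fun η hη => hmem η hη, fun η => Iff.rfl⟩
  let W : Y.Opens := ⟨Sᶜ, by
    rw [isOpen_compl_iff, ← Set.biUnion_of_singleton S]
    exact hS.isClosed_biUnion hcl⟩
  have hmin : ∀ η ∈ G \ S, η ∈ V ∧ η ∈ W := fun η hη => ⟨hgen η ((hGmax η).1 hη.1), hη.2⟩
  obtain ⟨f, hfW, hfG⟩ := PoleOne18.exists_basicOpen_finite hV hG.sdiff W
    (fun η hη => (hmin η hη).1) (fun η hη => (hmin η hη).2)
  have hC : ∀ y : Y, y ∉ Y.basicOpen f → IsClosed ({y} : Set Y) := fun y hy => by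
    by_cases hyS : y ∈ S
    · exact hcl y hyS
    refine closure_subset_iff_isClosed.1 fun y' hy' => ?_
    by_contra hne
    refine hy (hfG ⟨(hGmax y).2 fun b hb => ?_, hyS⟩)
    exact Pic18.eq_of_specializes (hd y') (specializes_iff_mem_closure.2 hy') (fun h => hne h.symm) hb
  let B : Set Y := ((Y.basicOpen f : Set Y)ᶜ) \ S
  have hB : B.Finite := (finite_of_forall_isClosed (Y.basicOpen f).2.isClosed_compl hC).subset Set.sdiff_subset
  have hBc : IsClosed B := by
    rw [← Set.biUnion_of_singleton B]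
    exact hB.isClosed_biUnion fun b hb => hC b hb.1
  let V' : Y.Opens := V ⊓ ⟨Bᶜ, hBc.isOpen_compl⟩
  refine ⟨V', Y.presheaf.map (homOfLE inf_le_left).op f,
    PoleOne18.isAffineOpen_of_le hd hV inf_le_left, fun z hz => ⟨hSV hz, fun h => h.2 hz⟩, fun y hy => ?_⟩
  rw [Scheme.basicOpen_res]
  refine ⟨fun h => hfW h.2, fun h => ⟨hy, ?_⟩⟩
  by_contra h'
  exact hy.2 ⟨h', h⟩

set_option backward.isDefEq.respectTransparency false in
/-- Finiteness of first cohomology of a proper scheme gives a function with poles exactly at finitely many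
given closed points of a curve. -/
theorem exists_pole_function (q : Y ⟶ Spec (CommRingCat.of k)) [IsProper q]
    (hdim : ∀ y : Y, ringKrullDim (Y.presheaf.stalk y) ≤ 1) (O : Y.Opens) (hO : ((O : Set Y)ᶜ).Finite)
    (hcl : ∀ z ∉ O, IsClosed ({z} : Set Y)) :
    ∃ (y : Γ(Y, O)) (V : Y.Opens) (g : Γ(Y, V)), (∀ z ∉ O, z ∈ V) ∧
      ores (inf_le_right : O ⊓ V ≤ V) g * ores (inf_le_left : O ⊓ V ≤ O) y = 1 ∧
      ∀ z ∉ O, z ∉ Y.basicOpen g := by
  classical
  haveI := isNoetherian_of_isProper q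
  haveI : Y.IsSeparated := ⟨by
    have : Limits.terminal.from Y = q ≫ Limits.terminal.from _ := Subsingleton.elim _ _
    rw [this]; infer_instance⟩
  obtain ⟨V, f, hV, hSV, hf⟩ := exists_local_equation hdim hO hcl
  have hle : O ⊓ V ≤ Y.basicOpen f := fun y hy => (hf y hy.2).2 (not_not.2 hy.1)
  let a : Γ(Y, O ⊓ V) := ores (inf_le_right : O ⊓ V ≤ V) f
  have ha : IsUnit a := by
    have h := (RingedSpace.isUnit_res_basicOpen _ f).map (ores hle).hom
    rw [show a = ores hle (ores (Y.basicOpen_le f) f) from (M1.ores_ores (Y.basicOpen_le f) hle f).symm]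
    exact h
  obtain ⟨b, hb⟩ := ha.exists_left_inv
  let φ : k →+* Γ(Y, ⊤) := Coh.toGlobal q
  let c : k → Γ(Y, O ⊓ V) := fun t => ores (le_top : O ⊓ V ≤ ⊤) (φ t)
  let F := (abF Y).obj (Coh.structureModule Y)
  have hfin : HFin φ (Coh.structureModule Y) 1 ⊤ :=
    hFin_proper q (Coh.structureModule Y) (M1.isCoh_structureModule Y) 1
  have htop : (O ⊔ V : Y.Opens) = ⊤ := top_le_iff.1 fun y _ => by
    by_cases h : y ∈ O
    · exact Or.inl h
    · exact Or.inr (hSV h)
  let Φ : Γ(Y, O ⊓ V) →+ Hc F (0 + 1) (O ⊔ V) :=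
    (mvδ (X := sp Y) O V F 0).comp
      (show Γ(Y, O ⊓ V) →+ Hc F 0 (O ⊓ V) from (hc0 F (O ⊓ V)).symm.toAddMonoidHom)
  letI := hMod φ (Coh.structureModule Y) (0 + 1) (O ⊔ V)
  haveI : Module.Finite k (Hc F (0 + 1) (O ⊔ V)) := by
    have h : HFin φ (Coh.structureModule Y) 1 (O ⊔ V) := by rw [htop]; exact hfin
    exact h
  letI : Algebra k Γ(Y, O ⊓ V) := ((ores (le_top : O ⊓ V ≤ ⊤)).hom.comp φ).toAlgebra
  let Φl : Γ(Y, O ⊓ V) →ₗ[k] Hc F (0 + 1) (O ⊔ V) :=
    { toFun := Φ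
      map_add' := map_add Φ
      map_smul' := fun t x => by
        show mvδ (X := sp Y) O V F 0 ((hc0 F (O ⊓ V)).symm _) =
          gMul (Coh.structureModule Y) (φ t) (0 + 1) (O ⊔ V) (mvδ (X := sp Y) O V F 0 _)
        rw [mp_mvδ]
        congr 1
        apply (hc0 F (O ⊓ V)).injective
        rw [AddEquiv.apply_symm_apply, hc0_mp]
        erw [AddEquiv.apply_symm_apply]
        rfl }
  let Ψ : Polynomial k →ₗ[k] Hc F (0 + 1) (O ⊔ V) :=
    Φl.comp ((LinearMap.mulLeft k b).comp (Polynomial.aeval b).toLinearMap)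
  obtain ⟨P, hP, hP0⟩ : ∃ P : Polynomial k, P ≠ 0 ∧ Ψ P = 0 := by
    by_contra hcon
    push Not at hcon
    have hinj : Function.Injective Ψ := by
      rw [← LinearMap.ker_eq_bot, eq_bot_iff]
      intro P hP
      by_contra h
      exact hcon P h hP
    exact Polynomial.not_finite (Module.Finite.of_injective Ψ hinj)
  obtain ⟨y, w, hyw⟩ := mv_diff _ (show mvδ (X := sp Y) O V F 0
    ((hc0 F (O ⊓ V)).symm (b * Polynomial.aeval b P)) = 0 from hP0)
  let y' : Γ(Y, O) := hc0 F O y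
  let w' : Γ(Y, V) := hc0 F V w
  have h1 : ores (inf_le_left : O ⊓ V ≤ O) y' - ores (inf_le_right : O ⊓ V ≤ V) w' =
      b * Polynomial.aeval b P := by
    have h := congrArg (hc0 F (O ⊓ V)) hyw
    rw [map_sub, hc0_rs, hc0_rs, AddEquiv.apply_symm_apply] at h
    exact h
  let n := P.natDegree
  let cV : k →+* Γ(Y, V) := (ores (le_top : V ≤ ⊤)).hom.comp φ
  let u : Γ(Y, V) := Polynomial.eval₂ cV f P.reverse + f ^ (n + 1) * w'
  have hmap : ores (inf_le_right : O ⊓ V ≤ V) u = a ^ (n + 1) * ores (inf_le_left : O ⊓ V ≤ O) y' := by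
    have h2 : (ores (inf_le_right : O ⊓ V ≤ V)).hom.comp cV = algebraMap k Γ(Y, O ⊓ V) := RingHom.ext fun t => by
      show ores _ (ores _ (φ t)) = ores _ (φ t)
      rw [M1.ores_ores]
    letI : Invertible b := ⟨a, by rw [mul_comm]; exact hb, hb⟩
    have h4 := Polynomial.eval₂_reverse_mul_pow (algebraMap k Γ(Y, O ⊓ V)) b P
    have h3 : Polynomial.eval₂ (algebraMap k Γ(Y, O ⊓ V)) a P.reverse =
        a ^ (n + 1) * (b * Polynomial.aeval b P) := by
      have hab : a ^ n * b ^ n = 1 := by rw [← mul_pow, mul_comm a b, hb, one_pow]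
      calc _ = Polynomial.eval₂ (algebraMap k Γ(Y, O ⊓ V)) a P.reverse * b ^ n * a ^ n := by
            rw [mul_assoc, mul_comm (b ^ n), hab, mul_one]
        _ = Polynomial.aeval b P * a ^ n := by
            rw [show Polynomial.aeval b P = Polynomial.eval₂ (algebraMap k Γ(Y, O ⊓ V)) b P from rfl, ← h4]
            rfl
        _ = a ^ n * (b * a) * Polynomial.aeval b P := by rw [hb, mul_one, mul_comm]
        _ = _ := by ring
    rw [map_add, map_mul, map_pow, Polynomial.hom_eval₂, h2]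
    refine (congrArg (· + _) h3).trans ?_
    rw [← mul_add, ← h1, sub_add_cancel]
  have hu : ∀ z ∉ O, z ∈ Y.basicOpen u := fun z hz => by
    let m : Ideal Γ(Y, V) := (IsLocalRing.maximalIdeal (Y.presheaf.stalk z)).comap
      (Y.presheaf.germ V z (hSV hz)).hom
    have hfm : f ∈ m := fun h => (hf z (hSV hz)).1 ((Y.mem_basicOpen f z (hSV hz)).2 h) hz
    refine (Y.mem_basicOpen u z (hSV hz)).2 (not_not.1 fun h => ?_)
    have hum : u ∈ m := h
    have h2 : Polynomial.eval₂ cV f P.reverse ∈ m := by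
      have h5 := m.sub_mem hum (m.mul_mem_right w' (Ideal.pow_mem_of_mem m hfm (n + 1) n.succ_pos))
      rwa [add_sub_cancel_right] at h5
    rw [← Ideal.Quotient.eq_zero_iff_mem, Polynomial.hom_eval₂, Ideal.Quotient.eq_zero_iff_mem.2 hfm,
      Polynomial.eval₂_at_zero, Polynomial.coeff_zero_reverse] at h2
    have h6 : IsUnit ((Ideal.Quotient.mk m).comp cV P.leadingCoeff) :=
      (isUnit_iff_ne_zero.2 (Polynomial.leadingCoeff_ne_zero.2 hP)).map _
    rw [h2, isUnit_zero_iff] at h6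
    exact (inferInstance : m.IsPrime).ne_top (Ideal.Quotient.zero_eq_one_iff.1 h6)
  have hUV : Y.basicOpen u ≤ V := Y.basicOpen_le u
  obtain ⟨ι, hι⟩ : ∃ ι : Γ(Y, Y.basicOpen u), ι * ores hUV u = 1 :=
    (RingedSpace.isUnit_res_basicOpen _ u).exists_left_inv
  refine ⟨y', Y.basicOpen u, ores hUV (f ^ (n + 1)) * ι, hu, ?_, fun z hz h => ?_⟩
  · have hle' : O ⊓ Y.basicOpen u ≤ O ⊓ V := inf_le_inf_left O hUV
    have h7 := congrArg (ores hle') hmap
    have h8 := congrArg (ores (inf_le_right : O ⊓ Y.basicOpen u ≤ Y.basicOpen u)) hι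
    rw [map_mul, map_one] at h8
    simp only [map_mul, map_pow, a, M1.ores_ores] at h7 h8 ⊢
    rw [h7] at h8
    rw [← h8]
    ring
  · rw [Scheme.basicOpen_mul, Scheme.basicOpen_res, pow_succ', Scheme.basicOpen_mul] at h
    exact (hf z (hSV hz)).1 h.1.2.1 hz

end Groth.Agent.AmpleImm18
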