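import Groth.Agent.Lib.AmpleImm18.Completion
import Groth.Agent.Lib.AmpleImm18.PoleFun
import Mathlib.AlgebraicGeometry.ZariskisMainTheorem

/-!
# A scheme of dimension at most one without proper components is affine
-/

set_option autoImplicit false
set_option linter.style.haveILetI false
set_option backward.isDefEq.respectTransparency false

universe u

open CategoryTheory CategoryTheory.Limits AlgebraicGeometry TopologicalSpace Opposite Polynomial

namespace Groth.Agent.AmpleImm18

open Groth.Agent.M1 (ores)

variable {k : Type u} [Field k] {X : Scheme.{u}}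

theorem isAffine_of_forall_not_isProper (q : X ⟶ Spec (CommRingCat.of k)) [IsSeparated q]
    [LocallyOfFiniteType q] [QuasiCompact q] (hdim : topologicalKrullDim X ≤ 1)
    (h : ∀ η : X, FlatH4.IsMaxPt η → ¬ IsClosed ({η} : Set X) → ¬ IsProper ((Scheme.IdealSheafData.vanishingIdeal
      (⟨closure {η}, isClosed_closure⟩ : Closeds X)).subschemeι ≫ q)) :
    IsAffine X := by
  classical
  obtain ⟨d, Y, c, j, hc, hj, hjq, -, -, hp, hdY, hfin, hcl⟩ := exists_completion q hdim
  let p : Y ⟶ Spec (CommRingCat.of k) := c ≫ CohB1.ProjSpace.toSpec d k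
  have hd : ∀ y : Y, ringKrullDim (Y.presheaf.stalk y) ≤ 1 := fun y =>
    (VB17.ringKrullDim_stalk_le_topologicalKrullDim y).trans hdY
  obtain ⟨y, V, g, hzV, hgy, hgz⟩ :=
    exists_pole_function p hd j.opensRange hfin fun z hz => hcl z hz
  have htop : (⊤ : X.Opens) ≤ j ⁻¹ᵁ j.opensRange := fun x _ => ⟨x, rfl⟩
  let y₀ : Γ(X, ⊤) := j.appLE j.opensRange ⊤ htop y
  let jg : Γ(X, j ⁻¹ᵁ V) := j.appLE V (j ⁻¹ᵁ V) le_rfl g
  let yV : Γ(X, j ⁻¹ᵁ V) := ores (le_top : j ⁻¹ᵁ V ≤ ⊤) y₀
  have hjgy : jg * yV = 1 := by
    have hle : j ⁻¹ᵁ V ≤ j ⁻¹ᵁ (j.opensRange ⊓ V) := fun x hx => ⟨⟨x, rfl⟩, hx⟩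
    have h1 := congrArg (j.appLE (j.opensRange ⊓ V) (j ⁻¹ᵁ V) hle) hgy
    rw [map_mul, map_one] at h1
    refine Eq.trans (congrArg₂ (· * ·) ?_ ?_) h1
    · show jg = (Y.presheaf.map _ ≫ j.appLE _ _ hle) g
      rw [Scheme.Hom.map_appLE]
    · show (j.appLE _ ⊤ htop ≫ X.presheaf.map _) y = (Y.presheaf.map _ ≫ j.appLE _ _ hle) y
      rw [Scheme.Hom.map_appLE, Scheme.Hom.appLE_map]
  -- the map to the affine line
  let φ : k →+* Γ(X, ⊤) := Coh.toGlobal q
  let ev : CommRingCat.of (Polynomial k) ⟶ Γ(X, ⊤) := CommRingCat.ofHom (Polynomial.eval₂RingHom φ y₀)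
  let P : Scheme.{u} := Spec (CommRingCat.of (Polynomial k))
  let t : P ⟶ Spec (CommRingCat.of k) := Spec.map (CommRingCat.ofHom Polynomial.C)
  let π : X ⟶ P := X.toSpecΓ ≫ Spec.map ev
  have happ : ∀ r, π.appTop ((Scheme.ΓSpecIso (CommRingCat.of (Polynomial k))).inv r) =
      Polynomial.eval₂ φ y₀ r := fun r => by
    have e : (Scheme.ΓSpecIso (CommRingCat.of (Polynomial k))).inv ≫ π.appTop = ev := by
      rw [Scheme.Hom.comp_appTop, ← Category.assoc, ← Scheme.ΓSpecIso_inv_naturality, Category.assoc,
        Scheme.toSpecΓ_appTop, Iso.inv_hom_id, Category.comp_id]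
    exact congrArg (fun m => m.hom r) e
  have hπt : π ≫ t = q := by
    apply ext_of_isAffine
    rw [← cancel_epi (Scheme.ΓSpecIso (CommRingCat.of k)).inv, Scheme.Hom.comp_appTop]
    simp only [t, ← Category.assoc, ← Scheme.ΓSpecIso_inv_naturality]
    refine CommRingCat.hom_ext (RingHom.ext fun a => ?_)
    exact (happ (Polynomial.C a)).trans (Polynomial.eval₂_C _ _)
  let T : Γ(P, ⊤) := (Scheme.ΓSpecIso (CommRingCat.of (Polynomial k))).inv Polynomial.X
  have hT : π.appTop T = y₀ := (happ _).trans (Polynomial.eval₂_X _ _)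
  -- properness
  have hjp : j ≫ p = q := hjq
  let σ : X ⟶ pullback q t := pullback.lift (𝟙 X) π (by rw [Category.id_comp, hπt])
  let m : pullback q t ⟶ pullback p t := pullback.map q t p t j (𝟙 _) (𝟙 _) (by simp [hjp]) (by simp)
  let G : X ⟶ pullback p t := σ ≫ m
  have hG1 : G ≫ pullback.fst p t = j := by
    simp [G, σ, m]
    exact Category.id_comp j
  have hG2 : G ≫ pullback.snd p t = π := by simp [G, σ, m]
  haveI : IsClosedImmersion σ := by
    haveI : IsClosedImmersion (σ ≫ pullback.fst q t) := by
      rw [pullback.lift_fst]; infer_instance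
    exact IsClosedImmersion.of_comp σ (pullback.fst q t)
  have hmrange : Set.range m = pullback.fst p t ⁻¹' Set.range j := by
    rw [Scheme.Pullback.range_map]
    simp
  haveI : IsOpenImmersion m := inferInstance
  have hclosed : IsClosed (Set.range G) := by
    refine closure_subset_iff_isClosed.1 fun w hw => ?_
    by_cases hwj : pullback.fst p t w ∈ Set.range j
    · obtain ⟨v, rfl⟩ := hmrange.ge (show w ∈ pullback.fst p t ⁻¹' Set.range j from hwj)
      have : v ∈ closure (Set.range σ) := by
        rw [m.isOpenEmbedding.isEmbedding.closure_eq_preimage_closure_image, Set.mem_preimage, ← Set.range_comp]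
        convert hw using 2
        ext; simp [G]
      rw [σ.isClosedEmbedding.isClosed_range.closure_eq] at this
      obtain ⟨x, rfl⟩ := this
      exact ⟨x, Scheme.Hom.comp_apply _ _ _⟩
    exfalso
    let V' : (pullback p t).Opens := pullback.fst p t ⁻¹ᵁ V
    let e₁ : Γ(pullback p t, V') := (pullback.fst p t).app V g
    let e₂ : Γ(pullback p t, V') := (pullback.snd p t).appLE ⊤ V' le_top T
    let e : Γ(pullback p t, V') := e₁ * e₂ - 1
    have hwV : w ∈ V' := hzV _ hwj
    have hwe : w ∈ (pullback p t).basicOpen e := by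
      refine ((pullback p t).mem_basicOpen e w hwV).2 ?_
      have h1 : ¬ IsUnit ((pullback p t).presheaf.germ V' w hwV e₁) := fun hu => by
        have : w ∈ (pullback p t).basicOpen e₁ := ((pullback p t).mem_basicOpen e₁ w hwV).2 hu
        simp only [e₁, ← Scheme.preimage_basicOpen] at this
        exact hgz _ hwj this
      rw [map_sub, map_mul, map_one, IsUnit.sub_iff]
      exact IsLocalRing.isUnit_one_sub_self_of_mem_nonunits _ (mul_mem_nonunits_left h1)
    obtain ⟨-, hGe, x, rfl⟩ := mem_closure_iff.1 hw _ ((pullback p t).basicOpen e).2 hwe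
    have hx : x ∈ G ⁻¹ᵁ (pullback p t).basicOpen e := hGe
    rw [Scheme.preimage_basicOpen] at hx
    have hle : j ⁻¹ᵁ V = G ⁻¹ᵁ V' := by
      rw [← Scheme.Hom.comp_preimage, hG1]
    have h0 : X.presheaf.map (homOfLE hle.le).op (G.app V' e) = 0 := by
      show (G.app V' ≫ X.presheaf.map _) e = 0
      rw [Scheme.Hom.app_eq_appLE, Scheme.Hom.appLE_map]
      simp only [e, map_sub, map_mul, map_one, e₁, e₂, Scheme.Hom.app_eq_appLE]
      simp only [← CommRingCat.comp_apply, Scheme.Hom.appLE_comp_appLE, hG1, hG2]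
      rw [sub_eq_zero]
      refine Eq.trans (congrArg₂ (· * ·) ?_ ?_) hjgy
      · show ((pullback.fst p t).appLE V _ _ ≫ G.appLE _ _ _) g = jg
        rw [Scheme.Hom.appLE_comp_appLE]
        simp only [hG1]
        rfl
      · show π.appLE ⊤ _ _ T = ores _ y₀
        rw [← hT, Scheme.Hom.appLE]
        rfl
    have hx' : x ∈ X.basicOpen (X.presheaf.map (homOfLE hle.le).op (G.app V' e)) := by
      rw [Scheme.basicOpen_res]
      exact ⟨hle.ge (X.basicOpen_le _ hx), hx⟩
    rw [h0, Scheme.basicOpen_zero] at hx'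
    exact hx'
  haveI : IsPreimmersion G := inferInstanceAs (IsPreimmersion (σ ≫ m))
  haveI : IsClosedImmersion G := IsClosedImmersion.of_isPreimmersion G hclosed
  haveI : IsProper (pullback.snd p t) := MorphismProperty.pullback_snd _ _ hp
  haveI : IsProper π := by rw [← hG2]; infer_instance
  -- finite fibres
  haveI : CompactSpace X := QuasiCompact.compactSpace_of_compactSpace q
  haveI := LocallyOfFiniteType.isLocallyNoetherian q
  haveI : IsNoetherian X := {}
  haveI : JacobsonSpace X := LocallyOfFiniteType.jacobsonSpace q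
  haveI : LocallyOfFiniteType π := by
    haveI : LocallyOfFiniteType (π ≫ t) := by rw [hπt]; infer_instance
    exact locallyOfFiniteType_of_comp π t
  have hmax : ∀ a b : X, a ⤳ b → a ≠ b → FlatH4.IsMaxPt a := fun a b hab hne c hca =>
    Pic18.eq_of_specializes ((VB17.ringKrullDim_stalk_le_topologicalKrullDim b).trans hdim) hab hne hca
  have hmfin : {a : X | FlatH4.IsMaxPt a}.Finite := by
    obtain ⟨-, G₀, -, hG₀, -, hmem⟩ := PoleOne18.exists_affine_generic (X := X)
    exact hG₀.subset fun a ha => hmem a ha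
  haveI : LocallyQuasiFinite π := by
    refine locallyQuasiFinite_iff_finite_preimage_singleton.2 fun w => ?_
    by_cases hw : IsClosed ({w} : Set P)
    · refine finite_of_forall_isClosed (hw.preimage π.continuous) fun a ha => ?_
      by_contra hna
      obtain ⟨b, hb, hne⟩ : ∃ b, a ⤳ b ∧ a ≠ b := by
        by_contra hcon
        push Not at hcon
        exact hna (closure_subset_iff_isClosed.1 fun b hb =>
          (hcon b (specializes_iff_mem_closure.2 hb)).symm)
      have hamax := hmax a b hb hne
      obtain ⟨z, hzc, hzO⟩ : ∃ z ∈ closure ({j a} : Set Y), z ∉ Set.range j := by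
        by_contra hcon
        push Not at hcon
        let I : X.IdealSheafData := Scheme.IdealSheafData.vanishingIdeal ⟨closure {a}, isClosed_closure⟩
        refine h a hamax hna ?_
        haveI : IsPreimmersion (I.subschemeι ≫ j) := inferInstance
        have hr : Set.range (I.subschemeι ≫ j) = closure ({j a} : Set Y) := by
          rw [Scheme.Hom.comp_base, TopCat.coe_comp, Set.range_comp,
            Scheme.IdealSheafData.range_subschemeι, Scheme.IdealSheafData.coe_support_vanishingIdeal]
          refine Set.Subset.antisymm ?_ fun z hz => ?_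
          · exact (image_closure_subset_closure_image j.continuous).trans (by rw [Set.image_singleton])
          · obtain ⟨v, rfl⟩ := hcon z hz
            refine ⟨v, ?_, rfl⟩
            show v ∈ closure ({a} : Set X)
            rw [j.isEmbedding.closure_eq_preimage_closure_image, Set.image_singleton]
            exact hz
        haveI : IsClosedImmersion (I.subschemeι ≫ j) :=
          IsClosedImmersion.of_isPreimmersion _ (by rw [hr]; exact isClosed_closure)
        rw [← hjp, ← Category.assoc]
        infer_instance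
      have hzV' : z ∈ V := hzV z hzO
      have hspec : j a ⤳ z := specializes_iff_mem_closure.2 hzc
      have haV : j a ∈ V := hspec.mem_open V.2 hzV'
      obtain ⟨μ, hμ, hμ0⟩ : ∃ μ ∈ (π a).asIdeal, μ ≠ 0 := by
        by_contra hcon
        push Not at hcon
        have h1 : (π a).asIdeal.IsMaximal := by
          rw [Set.mem_preimage, Set.mem_singleton_iff] at ha
          rw [ha]
          exact (PrimeSpectrum.isClosed_singleton_iff_isMaximal w).1 hw
        rw [show (π a).asIdeal = ⊥ from eq_bot_iff.2 fun r hr => hcon r hr] at h1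
        exact Polynomial.not_isField k (Ring.isField_iff_maximal_bot.2 h1)
      have haμ : a ∉ X.basicOpen (Polynomial.eval₂ φ y₀ μ) := fun hin => by
        rw [← happ, ← Scheme.preimage_basicOpen_top] at hin
        have h2 : π a ∈ P.basicOpen ((Scheme.ΓSpecIso (CommRingCat.of (Polynomial k))).inv μ) := hin
        rw [basicOpen_eq_of_affine] at h2
        exact h2 hμ
      let cV : k →+* Γ(Y, V) := (ores (le_top : V ≤ ⊤)).hom.comp (Coh.toGlobal p)
      let r : Γ(Y, V) := Polynomial.eval₂ cV g μ.reverse
      let M : Ideal Γ(Y, V) := (IsLocalRing.maximalIdeal (Y.presheaf.stalk z)).comap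
        (Y.presheaf.germ V z hzV').hom
      have hgM : g ∈ M := fun hu => hgz z hzO ((Y.mem_basicOpen g z hzV').2 hu)
      have hzr : z ∈ Y.basicOpen r := by
        refine (Y.mem_basicOpen r z hzV').2 (not_not.1 fun hu => ?_)
        have h2 : r ∈ M := hu
        rw [← Ideal.Quotient.eq_zero_iff_mem, Polynomial.hom_eval₂, Ideal.Quotient.eq_zero_iff_mem.2 hgM,
          Polynomial.eval₂_at_zero, Polynomial.coeff_zero_reverse] at h2
        have h6 : IsUnit ((Ideal.Quotient.mk M).comp cV μ.leadingCoeff) :=
          (isUnit_iff_ne_zero.2 (Polynomial.leadingCoeff_ne_zero.2 hμ0)).map _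
        rw [h2, isUnit_zero_iff] at h6
        exact (inferInstance : M.IsPrime).ne_top (Ideal.Quotient.zero_eq_one_iff.1 h6)
      have har : a ∈ j ⁻¹ᵁ Y.basicOpen r := hspec.mem_open (Y.basicOpen r).2 hzr
      rw [Scheme.preimage_basicOpen] at har
      let α : k →+* Γ(X, j ⁻¹ᵁ V) := (ores (le_top : j ⁻¹ᵁ V ≤ ⊤)).hom.comp φ
      have hα : (j.app V).hom.comp cV = α := RingHom.ext fun s => by
        show (Y.presheaf.map _ ≫ j.app V) (Coh.toGlobal p s) = (X.presheaf.map _) (Coh.toGlobal q s)
        rw [Scheme.Hom.naturality]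
        subst hjp
        rfl
      letI : Invertible yV := ⟨jg, hjgy, by rw [mul_comm]; exact hjgy⟩
      have hrev := Polynomial.eval₂_reverse_mul_pow α yV μ
      have hyres : Polynomial.eval₂ α yV μ = ores (le_top : j ⁻¹ᵁ V ≤ ⊤) (Polynomial.eval₂ φ y₀ μ) :=
        (Polynomial.hom_eval₂ μ φ (ores (le_top : j ⁻¹ᵁ V ≤ ⊤)).hom y₀).symm
      have hjr : j.app V r = Polynomial.eval₂ α (⅟yV) μ.reverse := by
        show (j.app V).hom (Polynomial.eval₂ cV g μ.reverse) = _
        rw [Polynomial.hom_eval₂, hα]
        congr 1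
        rw [Scheme.Hom.app_eq_appLE]
        rfl
      rw [← hjr, hyres] at hrev
      apply haμ
      have h3 : a ∈ X.basicOpen (j.app V r * yV ^ μ.natDegree) := by
        rw [Scheme.basicOpen_mul]
        refine ⟨har, ?_⟩
        rw [Scheme.basicOpen_of_isUnit X ((isUnit_of_invertible yV).pow _)]
        exact haV
      rw [hrev, Scheme.basicOpen_res] at h3
      exact h3.2
    · refine hmfin.subset fun a ha c hca => ?_
      by_contra hne
      have h1 : IsClosed ({a} : Set X) := closure_subset_iff_isClosed.1 fun b hb => by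
        by_contra hba
        exact hne (hmax a b (specializes_iff_mem_closure.2 hb) (fun h => hba h.symm) c hca)
      refine hw ?_
      rw [← Set.mem_singleton_iff.1 ha, ← Set.image_singleton]
      exact π.isClosedMap _ h1
  haveI : IsFinite π := IsFinite.of_isProper_of_locallyQuasiFinite π
  exact isAffine_of_isAffineHom π

end Groth.Agent.AmpleImm18
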