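import Groth.Agent.Lib.CohFound.EmbedPow
import Groth.Agent.Lib.QAffImm12.Basic

/-!
# Immersions into projective space from sections with affine generating loci
-/

universe u

open CategoryTheory Limits AlgebraicGeometry TopologicalSpace Opposite

set_option linter.style.haveILetI false
set_option backward.isDefEq.respectTransparency false

namespace Groth.Agent.AmpleImm18

open Groth.Agent.M2 (tsec res)

variable {R : Type u} [CommRing R] {X : Scheme.{u}}

/-- Sections generating on a cover define a morphism to projective space under which the cover is the preimage of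
standard charts and given multiples of the sections become coordinates. -/
theorem exists_map_of_sections (q : X ⟶ Spec (CommRingCat.of R)) {M' : X.Modules}
    (hM' : PicF.IsInvertible M') {T : Type*} [Fintype T] (G : T → X.Opens)
    (hcov : ⨆ x, G x = ⊤) (w : T → ProjUP.Γm M')
    (hw : ∀ x y, (Amp.Gen (Amp.gm M' y (U := ⊤) trivial (w x)) ↔ y ∈ G x))
    (S : ∀ x : T, Finset Γ(X, G x))
    (hext : ∀ x, ∀ a ∈ S x, ∃ t : ProjUP.Γm M',
      M1.mres M' (le_top : G x ≤ ⊤) t = a • M1.mres M' le_top (w x)) :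
    ∃ (n : ℕ) (j : X ⟶ CohB1.ProjSpace n R) (D : T → (CohB1.ProjSpace n R).Opens),
      j ≫ CohB1.ProjSpace.toSpec n R = q ∧
      Nonempty ((Scheme.Modules.pullback j).obj (_root_.Twist.twistProjSpace n R 1) ≅ M') ∧
      (∀ x, IsAffineOpen (D x)) ∧
      ∀ x, ∃ h : j ⁻¹ᵁ D x = G x, (∀ a ∈ S x, a ∈ (j.appLE (D x) (G x) h.ge).hom.range) ∧
        ∀ c : R, (Groth.Agent.M1.ores (le_top : G x ≤ ⊤)).hom (ProjUP.toGlobal q c) ∈
          (j.appLE (D x) (G x) h.ge).hom.range := by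
  classical
  choose t ht using fun p : Σ x : T, S x => hext p.1 p.2.1 p.2.2
  let ι₀ := Option (T ⊕ Σ x : T, S x)
  let e := Fintype.equivFin ι₀
  obtain ⟨N', hN'⟩ : ∃ N', Fintype.card ι₀ = N' + 1 :=
    ⟨Fintype.card ι₀ - 1, (Nat.succ_pred_eq_of_pos Fintype.card_pos).symm⟩
  let v : ι₀ → ProjUP.Γm M' := fun o => o.elim 0 (Sum.elim w fun p => t p)
  let idx : ι₀ → Fin (N' + 1) := fun o => Fin.cast hN' (e o)
  let σ : Fin (N' + 1) → ProjUP.Γm M' := fun i => v (e.symm (Fin.cast hN'.symm i))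
  have hσ : ∀ o, σ (idx o) = v o := fun o => by simp [σ, idx]
  have hgenBy : ProjUP.GeneratedBy M' σ := fun y => by
    obtain ⟨x, hyx⟩ := Opens.mem_iSup.1 (hcov.ge (Opens.mem_top y))
    have hg := (hw x y).2 hyx
    refine top_le_iff.1 fun a _ => ?_
    obtain ⟨c, rfl⟩ := hg.2 a
    exact Submodule.smul_mem _ c (Submodule.subset_span
      ⟨idx (some (Sum.inl x)), congrArg (Amp.gm M' y (U := ⊤) trivial) (hσ _)⟩)
  obtain ⟨r, hr, τ, hτ⟩ := Groth.Agent.S3572.result N' q M' hM' σ hgenBy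
  let 𝒜 := CohB1.polyGrading N' R
  have hX : ∀ i : Fin (N' + 1), (MvPolynomial.X i : MvPolynomial (Fin (N' + 1)) R) ∈ 𝒜 1 := fun i =>
    MvPolynomial.isHomogeneous_X R i
  let D : T → (CohB1.ProjSpace N' R).Opens := fun x => Proj.basicOpen 𝒜 (MvPolynomial.X (idx (some (Sum.inl x))))
  have hres : ∀ {U : X.Opens} (z : ProjUP.Γm ((Scheme.Modules.pullback r).obj (Twist.twistProjSpace N' R 1))),
      τ.hom.app U (M1.mres _ (le_top : U ≤ ⊤) z) = M1.mres M' le_top (τ.hom.app ⊤ z) := fun z =>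
    M1.app_mres τ.hom le_top z
  have hpre : ∀ x : T, r ⁻¹ᵁ D x = (G x) := fun x => by
    ext y
    rw [SetLike.mem_coe, SetLike.mem_coe, ← hw x y]
    have hval : w x = τ.hom.app ⊤ (ProjUP.sec 𝒜 r (hX (idx (some (Sum.inl x))))) :=
      (hσ (some (Sum.inl x))).symm.trans (hτ _).symm
    rw [hval, Amp.gen_map_iso τ (U := ⊤) trivial]
    constructor
    · intro hy
      have h1 := (ProjUP.isGen_sec 𝒜 r (hX (idx (some (Sum.inl x))))).stalk hy
      rw [M1.germ_mres] at h1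
      exact h1
    · intro hy
      obtain ⟨l, hl⟩ := Opens.mem_iSup.1 ((ProjSpace.iSup_basicOpen N' R).ge (Opens.mem_top (r y)))
      have hl' : y ∈ r ⁻¹ᵁ Proj.basicOpen 𝒜 (MvPolynomial.X l) := hl
      have h1 := congrArg (Amp.gm _ y hl')
        (ProjUP.sec_eq_ev_smul 𝒜 r (hX l) (hX (idx (some (Sum.inl x)))) _ le_rfl)
      rw [Amp.gm_smul] at h1
      replace h1 := (M1.germ_mres _ _ hl' _).symm.trans h1
      have hy1 := (congrArg Amp.Gen h1).mp hy
      have hy2 := ((ProjUP.isGen_sec 𝒜 r (hX l)).stalk hl' |> fun hg => Amp.Gen.ne_zero_smul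
        (g := Amp.gm _ y hl' _) hg _).1 hy1
      rw [← Scheme.mem_basicOpen, ProjUP.basicOpen_ev 𝒜 (hX l) r _ le_rfl (hX (idx (some (Sum.inl x))))] at hy2
      exact hy2.2
  refine ⟨N', r, D, hr, ⟨τ⟩, fun x => Proj.isAffineOpen_basicOpen 𝒜 _ (hX _) one_pos, fun x => ⟨hpre x, ?_⟩⟩
  set i := idx (some (Sum.inl x))
  have hU : (G x) ≤ r ⁻¹ᵁ Proj.basicOpen 𝒜 (MvPolynomial.X i) := (hpre x).ge
  let ψ := ProjUP.ev 𝒜 (hX i) r ((G x)) hU
  have hrange : ∀ (z : Γ(X, G x)) (b : MvPolynomial (Fin (N' + 1)) R), ψ b = z →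
      z ∈ (r.appLE (D x) (G x) (hpre x).ge).hom.range := fun z b h =>
    ⟨Proj.awayToSection 𝒜 (MvPolynomial.X i) (EGA2.dehom 𝒜 (hX i) b), h⟩
  refine ⟨fun a ha => ?_, fun c => ?_⟩
  · let p : Σ x : T, S x := ⟨x, ⟨a, ha⟩⟩
    let l := idx (some (Sum.inr p))
    refine hrange _ (MvPolynomial.X l) ?_
    have el : τ.hom.app _ (M1.mres _ le_top (ProjUP.sec 𝒜 r (hX l))) =
        M1.mres M' (le_top : (G x) ≤ ⊤) (t p) :=
      (hres _).trans (congrArg _ ((hτ l).trans (hσ _)))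
    have ei : τ.hom.app _ (M1.mres _ le_top (ProjUP.sec 𝒜 r (hX i))) =
        M1.mres M' (le_top : (G x) ≤ ⊤) (w x) :=
      (hres _).trans (congrArg _ ((hτ i).trans (hσ _)))
    have h1 : M1.mres M' (le_top : (G x) ≤ ⊤) (t p) =
        ψ (MvPolynomial.X l) • M1.mres M' le_top (w x) :=
      el.symm.trans ((congrArg (fun z => τ.hom.app ((G x)) z)
        (ProjUP.sec_eq_ev_smul 𝒜 r (hX i) (hX l) _ hU)).trans
          ((Scheme.Modules.Hom.app_smul τ.hom _ _).trans (congrArg (ψ (MvPolynomial.X l) • ·) ei)))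
    have hg : Twist.IsGen M' ((G x)) (M1.mres M' le_top (w x)) :=
      Twist.isGen_of_stalk fun y hy => by rw [M1.germ_mres]; exact (hw x y).2 hy
    have h2 : M1.mres M' (le_top : (G x) ≤ ⊤) (t p) = a • M1.mres M' le_top (w x) := ht p
    refine (hg _ le_rfl).1 ?_
    simp only [M1.mres_id]
    exact h1.symm.trans h2
  · refine hrange _ (algebraMap R _ c) ?_
    rw [ProjUP.ev_algebraMap, show r ≫ ProjUP.toBase 𝒜 = q from hr]
    rfl

/-- A morphism that is given by surjective ring maps on affine charts covering the image is an immersion. -/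
theorem isImmersion_of_charts {P : Scheme.{u}} (i : X ⟶ P) {T : Type*} (W : T → P.Opens)
    (hW : ∀ x, IsAffineOpen (W x)) (G : T → X.Opens) (hA : ∀ x, IsAffineOpen (G x)) (hcov : ⨆ x, G x = ⊤)
    (hpre : ∀ x, i ⁻¹ᵁ W x = G x) (hsurj : ∀ x, (i.appLE (W x) (G x) (hpre x).ge).hom.range = ⊤) :
    IsImmersion i := by
  refine QAffImm12.isImmersion_of_opens i W ?_ fun x => ?_
  · simpa only [hpre] using hcov
  haveI : IsAffine (W x : Scheme) := hW x
  haveI : IsAffine (i ⁻¹ᵁ W x : Scheme) := by rw [hpre]; exact hA x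
  refine IsClosedImmersion.of_surjective_of_isAffine _ ?_
  have h : ∀ (D : X.Opens) (hD : i ⁻¹ᵁ W x = D), G x = D → Function.Surjective (i.appLE (W x) D hD.ge) := by
    rintro D hD rfl z
    have hz : z ∈ (i.appLE (W x) (G x) (hpre x).ge).hom.range := by rw [hsurj x]; trivial
    exact hz
  have h' := h _ rfl (hpre x).symm
  rw [morphismRestrict_appTop, Scheme.Hom.app_eq_appLE, Scheme.Hom.appLE_map]
  have key : ∀ (U : P.Opens) (D : X.Opens) (h₀ : D ≤ i ⁻¹ᵁ U), U = W x → D = i ⁻¹ᵁ W x →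
      Function.Surjective (i.appLE U D h₀) := fun U D h₀ e1 e2 => by subst e1 e2; exact h'
  exact key _ _ _ (Scheme.Opens.ι_image_top _) (Scheme.Opens.ι_image_top _)

/-- Sections with affine generating loci, extending the generators of the coordinate rings, give an immersion. -/
theorem exists_immersion_of_sections (q : X ⟶ Spec (CommRingCat.of R)) {M' : X.Modules}
    (hM' : PicF.IsInvertible M') {T : Type*} [Fintype T] (G : T → X.Opens) (hA : ∀ x, IsAffineOpen (G x))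
    (hcov : ⨆ x, G x = ⊤) (w : T → ProjUP.Γm M')
    (hw : ∀ x y, (Amp.Gen (Amp.gm M' y (U := ⊤) trivial (w x)) ↔ y ∈ G x))
    (S : ∀ x : T, Finset Γ(X, G x))
    (hS : ∀ x, ∀ P : Subring Γ(X, G x),
      (∀ c, (Groth.Agent.M1.ores (le_top : G x ≤ ⊤)).hom (ProjUP.toGlobal q c) ∈ P) →
      (∀ a ∈ S x, a ∈ P) → P = ⊤)
    (hext : ∀ x, ∀ a ∈ S x, ∃ t : ProjUP.Γm M',
      M1.mres M' (le_top : G x ≤ ⊤) t = a • M1.mres M' le_top (w x)) :
    ∃ (n : ℕ) (j : X ⟶ CohB1.ProjSpace n R), IsImmersion j ∧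
      j ≫ CohB1.ProjSpace.toSpec n R = q ∧
      Nonempty ((Scheme.Modules.pullback j).obj (_root_.Twist.twistProjSpace n R 1) ≅ M') := by
  obtain ⟨n, j, D, hq, hτ, hD, hch⟩ := exists_map_of_sections q hM' G hcov w hw S hext
  choose hpre hS' hc using hch
  exact ⟨n, j, isImmersion_of_charts j D hD G hA hcov hpre fun x => hS x _ (hc x) (hS' x), hq, hτ⟩

end Groth.Agent.AmpleImm18
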