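import Groth.Agent.Lib.AmpleImm18.Main
import Groth.Agent.Lib.ProjSpace.BaseChange
import Groth.Agent.Lib.RelAmple18.Basic
import Groth.Agent.Lib.Twist.Ample
import Groth.Agent.Lib.Twist.ProjSpace
import Groth.Agent.S4406

/-!
# Immersions into `P^n` over an affine base
-/

universe u

open CategoryTheory Limits AlgebraicGeometry TopologicalSpace Opposite

set_option linter.style.haveILetI false
set_option backward.isDefEq.respectTransparency false

namespace Groth.Agent.AmpleImm18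

theorem nonempty_pullback_map_twist (n : ℕ) (R : Type u) [CommRing R] :
    Nonempty ((Scheme.Modules.pullback (ProjSpace.map n (ProjSpace.fromZ R))).obj
      (_root_.Twist.twistProjSpace n (ULift.{u} ℤ) 1) ≅ _root_.Twist.twistProjSpace n R 1) := by
  letI : Algebra (ULift.{u} ℤ) R := (ProjSpace.fromZ R).toAlgebra
  letI : Algebra (MvPolynomial (Fin (n + 1)) (ULift.{u} ℤ)) (MvPolynomial (Fin (n + 1)) R) :=
    MvPolynomial.algebraMvPolynomial
  exact Groth.Agent.S4406.result (CohB1.polyGrading n (ULift.{u} ℤ)) (CohB1.polyGrading n R)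
    (ProjSpace.mapHom n (ProjSpace.fromZ R)) (fun _ => rfl) (ProjSpace.irrelevant_le_map n (ProjSpace.fromZ R)) 1

/-- Over an affine base the projection to `P^n_ℤ` is affine and `O(1)` is ample. -/
theorem isAmple_twistOver (n : ℕ) (Y : Scheme.{u}) [IsAffine Y] :
    CohB1.IsAmple (_root_.Twist.twistOver n Y 1) := by
  have h : CohB1.IsAmple (_root_.Twist.twistProjSpace n (ULift.{u} ℤ) 1) :=
    Twist.isAmple_twist (CohB1.polyGrading n (ULift.{u} ℤ)) _ (fun i => ProjSpace.X_mem' n (ULift.{u} ℤ) i)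
      (ProjSpace.irrelevant_le_span n (ULift.{u} ℤ)) (d := 1) one_pos
  haveI : IsAffineHom (pullback.fst (CohB1.ProjSpace.toSpec n (ULift.{u} ℤ)) (specULiftZIsTerminal.from Y)) :=
    MorphismProperty.pullback_fst _ _ inferInstance
  exact Amp.isAmple_pullback_of_isAffineHom _ h

/-- All large powers of an ample module are very ample over an affine base. -/
theorem exists_veryAmple_of_isAmple {X Y : Scheme.{u}} [IsAffine Y] (q : X ⟶ Y) [LocallyOfFiniteType q]
    {L : X.Modules} (h : CohB1.IsAmple L) :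
    ∃ m₀ : ℕ, ∀ m : ℕ, m₀ ≤ m → ∃ (n : ℕ) (i : X ⟶ CohB1.ProjSpaceOver n Y), IsImmersion i ∧
      i ≫ CohB1.ProjSpaceOver.toBase n Y = q ∧
      Nonempty (CohB1.tensorPow L m ≅ (Scheme.Modules.pullback i).obj (_root_.Twist.twistOver n Y 1)) := by
  obtain ⟨m₀, hm₀⟩ := exists_immersion_pow_of_isAmple (q ≫ Y.isoSpec.hom) h
  refine ⟨m₀, fun m hm => ?_⟩
  obtain ⟨n, j, hj, hjq, ⟨τ⟩⟩ := hm₀ m hm
  obtain ⟨σ⟩ := nonempty_pullback_map_twist n Γ(Y, ⊤)
  let o := ProjSpace.overMap n Y.isoSpec.inv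
  haveI : IsIso o := by
    have h := ProjSpace.isPullback_overMap n Y.isoSpec.inv
    exact h.isIso_fst_of_isIso
  refine ⟨n, j ≫ (ProjSpace.overSpecIso n Γ(Y, ⊤)).hom ≫ o, inferInstance, ?_, ⟨?_⟩⟩
  · rw [Category.assoc, Category.assoc, (ProjSpace.isPullback_overMap n Y.isoSpec.inv).w]
    refine (congrArg (j ≫ ·) (ProjSpace.overSpecIso_hom_toBase_assoc n _ _)).trans ?_
    refine ((Category.assoc _ _ _).symm.trans (congrArg (· ≫ Y.isoSpec.inv) hjq)).trans ?_
    simp
  · let fY := pullback.fst (CohB1.ProjSpace.toSpec n (ULift.{u} ℤ)) (specULiftZIsTerminal.from Y)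
    have e : j ≫ ProjSpace.map n (ProjSpace.fromZ Γ(Y, ⊤)) =
        (j ≫ (ProjSpace.overSpecIso n Γ(Y, ⊤)).hom ≫ o) ≫ fY := by
      rw [← ProjSpace.overSpecIso_hom_fst]
      simp [o, fY, ProjSpace.overMap]
    exact τ.symm ≪≫ (Scheme.Modules.pullback j).mapIso σ.symm ≪≫
      (Scheme.Modules.pullbackComp j (ProjSpace.map n (ProjSpace.fromZ Γ(Y, ⊤)))).app _ ≪≫
      eqToIso (congrArg (fun f => (Scheme.Modules.pullback f).obj _) e) ≪≫
      ((Scheme.Modules.pullbackComp _ fY).app _).symm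

end Groth.Agent.AmpleImm18
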