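import Groth.Agent.Lib.AmpleImm18.Main
import Groth.Agent.Lib.PoleOne18.Ample
import Groth.Agent.Lib.VB17.Setup
import Groth.Agent.Lib.VarDim.Irred
import Groth.Agent.Lib.VarDim.Scheme
import Groth.Agent.Lib.EffCartier.Dense
import Groth.Agent.Lib.FlatH4.GenPt
import Mathlib.AlgebraicGeometry.Morphisms.Immersion

/-!
# Projective completions of schemes of dimension at most one over a field
-/

universe u

open CategoryTheory Limits AlgebraicGeometry TopologicalSpace Opposite

set_option linter.style.haveILetI false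
set_option backward.isDefEq.respectTransparency false

namespace Groth.Agent.AmpleImm18

open Groth.Agent.VarDim

variable {k : Type u} [Field k] {X : Scheme.{u}}

theorem exists_ample_of_finiteType (q : X ⟶ Spec (CommRingCat.of k)) [IsSeparated q]
    [LocallyOfFiniteType q] [QuasiCompact q] (hdim : topologicalKrullDim X ≤ 1) :
    ∃ L : X.Modules, CohB1.IsAmple L := by
  haveI : CompactSpace X := QuasiCompact.compactSpace_of_compactSpace q
  haveI := LocallyOfFiniteType.isLocallyNoetherian q
  haveI : IsNoetherian X := {}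
  haveI : X.IsSeparated := ⟨by
    have : terminal.from X = q ≫ terminal.from _ := Subsingleton.elim _ _
    rw [this]; infer_instance⟩
  exact PoleOne18.exists_isAmple (X := X) fun y =>
    (VB17.ringKrullDim_stalk_le_topologicalKrullDim y).trans hdim

/-- Dimension at most one passes to a scheme with a dense open subscheme of dimension at most one. -/
theorem dim_le_one_of_dense {Y : Scheme.{u}} (p : Y ⟶ Spec (CommRingCat.of k)) [LocallyOfFiniteType p]
    (j : X ⟶ Y) [IsOpenImmersion j] (hd : Dense (Set.range j)) (hdim : topologicalKrullDim X ≤ 1) :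
    (∀ y : Y, sdim p y ≤ 1) ∧ topologicalKrullDim Y ≤ 1 ∧
      ∀ y : Y, y ∉ Set.range j → IsClosed ({y} : Set Y) := by
  have hX : ∀ x : X, sdim p (j x) ≤ 1 := fun x => by
    have h1 : ((sdim (j ≫ p) x : ℕ) : WithBot ℕ∞) ≤ 1 := by
      refine le_trans ?_ hdim
      rw [dim_eq_iSup_sdim (j ≫ p)]
      exact le_iSup (fun z : X => ((sdim (j ≫ p) z : ℕ) : WithBot ℕ∞)) x
    rw [← sdim_comp_of_surjective p j x]
    exact_mod_cast h1
  have hη : ∀ y : Y, ∃ x : X, j x ⤳ y ∧ ∀ z, z ⤳ j x → z = j x := fun y => by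
    haveI := LocallyOfFiniteType.isLocallyNoetherian p
    obtain ⟨η, hη, hmax⟩ := exists_maximal_specializes p y
    obtain ⟨x, rfl⟩ := FlatH4.IsMaxPt.mem_of_dense (η := η) hmax j.opensRange.2 hd
    exact ⟨x, hη, hmax⟩
  have hY : ∀ y : Y, sdim p y ≤ 1 := fun y => by
    obtain ⟨x, hx, -⟩ := hη y
    by_cases h : j x = y
    · exact h ▸ hX x
    · exact (sdim_lt_of_specializes p hx h).le.trans (hX x)
  refine ⟨hY, ?_, fun y hy => ?_⟩
  · rw [dim_eq_iSup_sdim p]
    exact iSup_le fun y => by exact_mod_cast hY y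
  · obtain ⟨x, hx, -⟩ := hη y
    have := sdim_lt_of_specializes p hx (fun h => hy ⟨x, h⟩)
    have := hX x
    exact (sdim_eq_zero_iff_isClosed p y).1 (by omega)

/-- A separated scheme of finite type and dimension at most one has a projective completion. -/
theorem exists_completion (q : X ⟶ Spec (CommRingCat.of k)) [IsSeparated q]
    [LocallyOfFiniteType q] [QuasiCompact q] (hdim : topologicalKrullDim X ≤ 1) :
    ∃ (d : ℕ) (Y : Scheme.{u}) (c : Y ⟶ CohB1.ProjSpace d k) (j : X ⟶ Y), IsClosedImmersion c ∧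
      IsOpenImmersion j ∧ j ≫ c ≫ CohB1.ProjSpace.toSpec d k = q ∧ Dense (Set.range j) ∧
      IsSchemeTheoreticallyDominant j ∧ IsProper (c ≫ CohB1.ProjSpace.toSpec d k) ∧
      topologicalKrullDim Y ≤ 1 ∧
      (Set.range j)ᶜ.Finite ∧ ∀ y ∈ (Set.range j)ᶜ, IsClosed ({y} : Set Y) := by
  obtain ⟨L, hL⟩ := exists_ample_of_finiteType q hdim
  obtain ⟨m₀, hm₀⟩ := exists_immersion_pow_of_isAmple q hL
  obtain ⟨d, i, hi, hiq, -⟩ := hm₀ m₀ le_rfl
  haveI : IsSeparated (CohB1.ProjSpace.toSpec d k) := by
    unfold CohB1.ProjSpace.toSpec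
    infer_instance
  haveI : QuasiCompact (i ≫ CohB1.ProjSpace.toSpec d k) := by rw [hiq]; infer_instance
  haveI : QuasiCompact i := QuasiCompact.of_comp i (CohB1.ProjSpace.toSpec d k)
  haveI hp : IsProper (i.imageι ≫ CohB1.ProjSpace.toSpec d k) := inferInstance
  haveI := EffCartier.dominant_toImage i
  have hd : Dense (Set.range i.toImage) := IsDominant.denseRange (f := i.toImage)
  obtain ⟨-, hdY, hcl⟩ := dim_le_one_of_dense (i.imageι ≫ CohB1.ProjSpace.toSpec d k) i.toImage hd hdim
  refine ⟨d, i.image, i.imageι, i.toImage, inferInstance, inferInstance,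
    by rw [i.toImage_imageι_assoc, hiq], hd, inferInstance, hp, hdY, ?_, fun y hy => hcl y hy⟩
  haveI := noetherianSpace_of_finiteType (i.imageι ≫ CohB1.ProjSpace.toSpec d k)
  have hcl' : IsClosed (Set.range i.toImage)ᶜ := i.toImage.opensRange.2.isClosed_compl
  haveI : CompactSpace ↥((Set.range i.toImage)ᶜ) :=
    isCompact_iff_compactSpace.1 (NoetherianSpace.isCompact _)
  haveI : T1Space ↥((Set.range i.toImage)ᶜ) := ⟨fun z => by
    rw [Topology.IsEmbedding.subtypeVal.isInducing.isClosed_iff]
    exact ⟨{z.1}, hcl _ z.2, Set.ext fun w => by simp [Subtype.ext_iff]⟩⟩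
  haveI : NoetherianSpace ↥((Set.range i.toImage)ᶜ) := Topology.IsEmbedding.subtypeVal.isInducing.noetherianSpace
  haveI : QuasiSober ↥((Set.range i.toImage)ᶜ) := hcl'.isClosedEmbedding_subtypeVal.quasiSober
  refine Set.finite_coe_iff.1 ?_
  have hfin := (NoetherianSpace.finite_irreducibleComponents (α := ↥((Set.range i.toImage)ᶜ))).to_subtype
  refine Finite.of_injective (fun z => (⟨irreducibleComponent z, irreducibleComponent_mem_irreducibleComponents z⟩ :
    irreducibleComponents ↥((Set.range i.toImage)ᶜ))) fun z w hzw => ?_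
  obtain ⟨g, hg⟩ := QuasiSober.sober (isIrreducible_irreducibleComponent (x := z)) isClosed_irreducibleComponent
  have h1 : irreducibleComponent z = irreducibleComponent w := congrArg Subtype.val hzw
  have h2 : g ⤳ z := hg.specializes mem_irreducibleComponent
  have h3 : g ⤳ w := hg.specializes (h1 ▸ mem_irreducibleComponent)
  exact h2.eq.symm.trans h3.eq

end Groth.Agent.AmpleImm18
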